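import Mathlib.Topology.Constructible
import Mathlib.Topology.LocallyClosed
import Mathlib.Topology.NoetherianSpace
import Mathlib.Data.Fintype.Powerset

/-!
# Stratifications refining finite families
-/

set_option autoImplicit false

universe u

open Topology

namespace GrothLib.Strat20

variable {X : Type u}

/-- membership in `s` is determined by membership in the members of the family -/
def Det {ι : Type} (U : ι → Set X) (s : Set X) : Prop :=
  ∀ x y, (∀ i, x ∈ U i ↔ y ∈ U i) → (x ∈ s ↔ y ∈ s)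

/-- the stratum of a pattern -/
def piece {N : ℕ} (U : Fin N → Set X) (A : Finset (Fin N)) : Set X :=
  {x | ∀ i, x ∈ U i ↔ i ∈ A}

theorem piece_eq {N : ℕ} (U : Fin N → Set X) (A : Finset (Fin N)) :
    piece U A = (⋂ i ∈ A, U i) ∩ ⋂ i ∈ Aᶜ, (U i)ᶜ := by
  ext x
  simp only [piece, Set.mem_ofPred_eq, Set.mem_inter_iff, Set.mem_iInter, Finset.mem_compl, Set.mem_compl_iff]
  exact ⟨fun h => ⟨fun i => (h i).2, fun i hi hx => hi ((h i).1 hx)⟩,
    fun h i => ⟨fun hx => by_contra fun hi => h.2 i hi hx, h.1 i⟩⟩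

theorem iUnion_piece {N : ℕ} (U : Fin N → Set X) : ⋃ A, piece U A = Set.univ := by
  classical
  refine Set.eq_univ_of_forall fun x => Set.mem_iUnion.2 ⟨Finset.univ.filter fun i => x ∈ U i, fun i => ?_⟩
  simp

theorem disjoint_piece {N : ℕ} (U : Fin N → Set X) {A B : Finset (Fin N)} (h : A ≠ B) :
    Disjoint (piece U A) (piece U B) := by
  rw [Set.disjoint_left]
  intro x hA hB
  exact h (Finset.ext fun i => (hA i).symm.trans (hB i))

variable [TopologicalSpace X]

theorem closure_piece {N : ℕ} {U : Fin N → Set X} (hU : ∀ i, IsOpen (U i)) (A : Finset (Fin N)) :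
    closure (piece U A) ⊆ ⋃ B ∈ Set.Iic A, piece U B := by
  classical
  intro x hx
  refine Set.mem_iUnion₂.2 ⟨Finset.univ.filter fun i => x ∈ U i, fun i hi => ?_, fun i => by simp⟩
  simp only [Finset.mem_filter, Finset.mem_univ, true_and] at hi
  obtain ⟨y, hy, hyA⟩ := mem_closure_iff.1 hx _ (hU i) hi
  exact (hyA i).1 hy

theorem isLocallyClosed_piece {N : ℕ} {U : Fin N → Set X} (hU : ∀ i, IsOpen (U i)) (A : Finset (Fin N)) :
    IsLocallyClosed (piece U A) := by
  rw [piece_eq]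
  exact ⟨_, _, isOpen_biInter_finset fun i _ => hU i, isClosed_biInter fun i _ => (hU i).isClosed_compl, rfl⟩

theorem isConstructible_piece {N : ℕ} {U : Fin N → Set X} (hU : ∀ i, IsOpen (U i)) (hU' : ∀ i, IsRetrocompact (U i))
    (A : Finset (Fin N)) : IsConstructible (piece U A) := by
  rw [piece_eq]
  exact (IsConstructible.biInter A.finite_toSet fun i _ => (hU' i).isConstructible (hU i)).inter
    (IsConstructible.biInter Aᶜ.finite_toSet fun i _ => ((hU' i).isConstructible (hU i)).compl)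

/-- `s` is cut out by finitely many opens with the property `P` -/
def Cut (P : Set X → Prop) (s : Set X) : Prop :=
  ∃ (N : ℕ) (U : Fin N → Set X), (∀ i, P (U i)) ∧ Det U s

theorem Cut.of_mem {P : Set X → Prop} {U : Set X} (h : P U) : Cut P U :=
  ⟨1, fun _ => U, fun _ => h, fun _ _ hxy => hxy 0⟩

theorem Cut.compl {P : Set X → Prop} {s : Set X} (h : Cut P s) : Cut P sᶜ := by
  obtain ⟨N, U, hU, hs⟩ := h
  exact ⟨N, U, hU, fun x y hxy => not_congr (hs x y hxy)⟩

theorem Cut.exists_common {P : Set X → Prop} {n : ℕ} {T : Fin n → Set X} (h : ∀ k, Cut P (T k)) :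
    ∃ (N : ℕ) (U : Fin N → Set X), (∀ i, P (U i)) ∧ ∀ k, Det U (T k) := by
  induction n with
  | zero => exact ⟨0, Fin.elim0, fun i => i.elim0, fun k => k.elim0⟩
  | succ n ih =>
    obtain ⟨N, U, hU, hs⟩ := ih fun k => h k.succ
    obtain ⟨M, V, hV, ht⟩ := h 0
    refine ⟨N + M, Fin.append U V, Fin.addCases (fun i => by simpa using hU i) (fun i => by simpa using hV i),
      Fin.cases (fun x y hxy => ht x y fun i => ?_) (fun k x y hxy => hs k x y fun i => ?_)⟩
    · simpa using hxy (Fin.natAdd N i)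
    · simpa using hxy (Fin.castAdd M i)

theorem Cut.union {P : Set X → Prop} {s t : Set X} (h : Cut P s) (h' : Cut P t) : Cut P (s ∪ t) := by
  obtain ⟨N, U, hU, hd⟩ := Cut.exists_common (T := ![s, t]) (P := P) (Fin.cases h (Fin.cases h' (fun i => i.elim0)))
  exact ⟨N, U, hU, fun x y hxy => or_congr (hd 0 x y hxy) (hd 1 x y hxy)⟩

theorem Cut.of_isConstructible {s : Set X} (h : IsConstructible s) :
    Cut (fun U => IsOpen U ∧ IsRetrocompact U) s := by
  induction h using IsConstructible.empty_union_induction with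
  | open_retrocompact U hU hU' => exact Cut.of_mem ⟨hU, hU'⟩
  | union s _ t _ hs ht => exact hs.union ht
  | compl s _ hs => exact hs.compl

theorem Cut.of_isLocallyClosed {s : Set X} (h : IsLocallyClosed s) : Cut IsOpen s := by
  obtain ⟨U, Z, hU, hZ, rfl⟩ := h
  have h1 : Cut IsOpen Uᶜ := (Cut.of_mem hU).compl
  have h2 : Cut IsOpen Zᶜ := Cut.of_mem hZ.isOpen_compl
  simpa [Set.compl_union] using (h1.union h2).compl

theorem piece_subset {N : ℕ} {U : Fin N → Set X} {s : Set X} (h : Det U s) {A : Finset (Fin N)}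
    (hne : (piece U A ∩ s).Nonempty) : piece U A ⊆ s := by
  obtain ⟨x, hx, hxs⟩ := hne
  exact fun y hy => (h x y fun i => (hx i).trans (hy i).symm).1 hxs

/-- partition of `Z`, compatible with a family, and good -/
def Good (Z : Set X) (𝒞 : Set (Set X)) (S : List (Set X)) : Prop :=
  (∀ s ∈ S, IsLocallyClosed s ∧ s ⊆ Z) ∧ Z ⊆ ⋃ s ∈ S, s ∧
    S.Pairwise Disjoint ∧ (∀ s ∈ S, ∀ t ∈ S, (s ∩ closure t).Nonempty → s ⊆ closure t) ∧
    ∀ s ∈ S, ∀ C ∈ 𝒞, (s ∩ C).Nonempty → s ⊆ C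

theorem exists_good [TopologicalSpace.NoetherianSpace X] (Z : TopologicalSpace.Closeds X) :
    ∀ 𝒞 : Set (Set X), 𝒞.Finite → (∀ C ∈ 𝒞, IsClosed C) → ∃ S, Good (Z : Set X) 𝒞 S := by
  classical
  induction Z using WellFoundedLT.induction with
  | _ Z ih =>
    intro 𝒞 hfin hcl
    by_cases hZ : (Z : Set X) = ∅
    · exact ⟨[], by simp, by simp [hZ], by simp, by simp, by simp⟩
    obtain ⟨ι, hι, hI', hI'', hZeq⟩ := TopologicalSpace.NoetherianSpace.exists_finite_set_isClosed_irreducible Z.isClosed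
    obtain ⟨x, hx⟩ := Set.nonempty_iff_ne_empty.2 hZ
    rw [hZeq] at hx
    obtain ⟨Z₁, hZ₁, -⟩ := hx
    obtain ⟨Z₀, -, hmax⟩ := hι.exists_le_maximal hZ₁
    let bad : Set (Set X) := {t ∈ ι | t ≠ Z₀} ∪ {C ∈ 𝒞 | ¬ Z₀ ⊆ C}
    have hbfin : bad.Finite := (hι.subset fun _ h => h.1).union (hfin.subset fun _ h => h.1)
    have hbcl : ∀ t ∈ bad, IsClosed t := by rintro t (⟨h, -⟩ | ⟨h, -⟩); exacts [(hI' t h), hcl t h]
    have hbsub : ∀ t ∈ bad, ¬ Z₀ ⊆ t := by
      rintro t (⟨h, hne⟩ | ⟨-, h⟩) hle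
      · exact hne (le_antisymm (hmax.2 h hle) hle)
      · exact h hle
    let B : Set X := ⋃₀ bad
    have hB : IsClosed B := by simp only [B, Set.sUnion_eq_biUnion]; exact hbfin.isClosed_biUnion hbcl
    have hW : (Z₀ \ B).Nonempty := by
      rw [Set.nonempty_iff_ne_empty, Ne, Set.sdiff_eq_empty]
      intro hsub
      obtain ⟨t, ht, htz⟩ := isIrreducible_iff_sUnion_isClosed.1 (hI'' Z₀ hmax.1) hbfin.toFinset
        (by simpa using hbcl) (by simpa [B] using hsub)
      exact hbsub t (hbfin.mem_toFinset.1 ht) htz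
    let W := Z₀ \ B
    have hWlc : IsLocallyClosed W :=
      ⟨Bᶜ, Z₀, hB.isOpen_compl, (hI' Z₀ hmax.1), Set.inter_comm _ _⟩
    let Z' : TopologicalSpace.Closeds X := ⟨(Z : Set X) ∩ B, Z.isClosed.inter hB⟩
    have hlt : Z' < Z := by
      refine lt_of_le_of_ne (fun y hy => hy.1) fun he => ?_
      obtain ⟨y, hy, hyB⟩ := hW
      have : y ∈ (Z' : Set X) := by rw [he, hZeq]; exact ⟨Z₀, hmax.1, hy⟩
      exact hyB this.2
    obtain ⟨S, hS1, hS2, hS3, hS4, hS5⟩ := ih Z' hlt (insert (closure W) 𝒞) (hfin.insert _)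
      (by rintro C (rfl | hC); exacts [isClosed_closure, hcl C hC])
    have hWZ : W ⊆ (Z : Set X) := fun y hy => by rw [hZeq]; exact ⟨Z₀, hmax.1, hy.1⟩
    refine ⟨W :: S, List.forall_mem_cons.2 ⟨⟨hWlc, hWZ⟩, fun s hs => ⟨(hS1 s hs).1, fun y hy => ((hS1 s hs).2 hy).1⟩⟩,
      fun y hy => ?_, List.pairwise_cons.2 ⟨fun s hs => ?_, hS3⟩, ?_, ?_⟩
    · by_cases hyB : y ∈ B
      · obtain ⟨s, hs, hys⟩ := Set.mem_iUnion₂.1 (hS2 ⟨hy, hyB⟩)
        exact Set.mem_iUnion₂.2 ⟨s, List.mem_cons_of_mem _ hs, hys⟩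
      · rw [hZeq] at hy
        obtain ⟨t, ht, hyt⟩ := hy
        have : t = Z₀ := by_contra fun hne => hyB ⟨t, .inl ⟨ht, hne⟩, hyt⟩
        exact Set.mem_iUnion₂.2 ⟨W, List.mem_cons_self, this ▸ hyt, hyB⟩
    · exact Set.disjoint_left.2 fun y hy hy' => hy.2 ((hS1 s hs).2 hy').2
    · intro s hs t ht hne
      rcases List.mem_cons.1 hs with rfl | hs'
      · rcases List.mem_cons.1 ht with rfl | ht'
        · exact subset_closure
        · obtain ⟨y, hy, hy'⟩ := hne
          exact absurd ((Z'.isClosed.closure_subset_iff.2 (hS1 t ht').2) hy').2 hy.2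
      · rcases List.mem_cons.1 ht with rfl | ht'
        · exact hS5 s hs' _ (Set.mem_insert _ _) hne
        · exact hS4 s hs' t ht' hne
    · intro s hs C hC hne
      rcases List.mem_cons.1 hs with rfl | hs'
      · obtain ⟨y, hy, hyC⟩ := hne
        have : Z₀ ⊆ C := by_contra fun h => hy.2 ⟨C, .inr ⟨hC, h⟩, hyC⟩
        exact fun z hz => this hz.1
      · exact hS5 s hs' C (Set.mem_insert_of_mem _ hC) hne

end GrothLib.Strat20
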